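import Cfsg.Agent.Lib.Helper56.HeC.ChkDefs

set_option autoImplicit false
set_option linter.unusedVariables false

namespace Cfsg.Agent.Lib.Helper56.HeC

open Cfsg.Agent.Lib.Helper28.TC

noncomputable section

theorem closedP_blk11 : allRange (guard nn closedP) 10 (11 * 2 ^ 10) = true := by decide +kernel

end

end Cfsg.Agent.Lib.Helper56.HeC
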