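import Cfsg.Agent.Lib.Helper56.HeC.ChkP0
import Cfsg.Agent.Lib.Helper56.HeC.ChkP1
import Cfsg.Agent.Lib.Helper56.HeC.ChkP2
import Cfsg.Agent.Lib.Helper56.HeC.ChkP3
import Cfsg.Agent.Lib.Helper56.HeC.ChkP4
import Cfsg.Agent.Lib.Helper56.HeC.ChkP5
import Cfsg.Agent.Lib.Helper56.HeC.ChkP6
import Cfsg.Agent.Lib.Helper56.HeC.ChkP7
import Cfsg.Agent.Lib.Helper56.HeC.ChkP8
import Cfsg.Agent.Lib.Helper56.HeC.ChkP9
import Cfsg.Agent.Lib.Helper56.HeC.ChkP10
import Cfsg.Agent.Lib.Helper56.HeC.ChkP11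
import Cfsg.Agent.Lib.Helper56.HeC.ChkP12
import Cfsg.Agent.Lib.Helper56.HeC.ChkP13
import Cfsg.Agent.Lib.Helper56.HeC.ChkP14
import Cfsg.Agent.Lib.Helper56.HeC.ChkP15
import Cfsg.Agent.Lib.Helper56.HeC.ChkP16
import Cfsg.Agent.Lib.Helper56.HeC.ChkP17
import Cfsg.Agent.Lib.Helper56.HeC.ChkP18
import Cfsg.Agent.Lib.Helper56.HeC.ChkP19
import Cfsg.Agent.Lib.Helper56.HeC.ChkP20
import Cfsg.Agent.Lib.Helper56.HeC.ChkP21
import Cfsg.Agent.Lib.Helper56.HeC.ChkP22
import Cfsg.Agent.Lib.Helper56.HeC.ChkP23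
import Cfsg.Agent.Lib.Helper56.HeC.ChkP24
import Cfsg.Agent.Lib.Helper56.HeC.ChkP25
import Cfsg.Agent.Lib.Helper56.HeC.ChkP26
import Cfsg.Agent.Lib.Helper56.HeC.ChkP27
import Cfsg.Agent.Lib.Helper56.HeC.ChkP28
import Cfsg.Agent.Lib.Helper56.HeC.ChkP29
import Cfsg.Agent.Lib.Helper56.HeC.ChkP30
import Cfsg.Agent.Lib.Helper56.HeC.ChkP31
import Cfsg.Agent.Lib.Helper56.HeC.ChkP32
import Cfsg.Agent.Lib.Helper56.HeC.ChkP33
import Cfsg.Agent.Lib.Helper56.HeC.ChkP34
import Cfsg.Agent.Lib.Helper56.HeC.ChkP35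
import Cfsg.Agent.Lib.Helper56.HeC.ChkP36
import Cfsg.Agent.Lib.Helper56.HeC.ChkP37
import Cfsg.Agent.Lib.Helper56.HeC.ChkP38
import Cfsg.Agent.Lib.Helper56.HeC.ChkP39
import Cfsg.Agent.Lib.Helper56.HeC.ChkP40
import Cfsg.Agent.Lib.Helper56.HeC.ChkP41
import Cfsg.Agent.Lib.Helper56.HeC.ChkP42
import Cfsg.Agent.Lib.Helper56.HeC.ChkP43
import Cfsg.Agent.Lib.Helper56.HeC.ChkP44
import Cfsg.Agent.Lib.Helper56.HeC.ChkP45
import Cfsg.Agent.Lib.Helper56.HeC.ChkP46
import Cfsg.Agent.Lib.Helper56.HeC.ChkP47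
import Cfsg.Agent.Lib.Helper56.HeC.ChkP48
import Cfsg.Agent.Lib.Helper56.HeC.ChkP49
import Cfsg.Agent.Lib.Helper56.HeC.ChkP50
import Cfsg.Agent.Lib.Helper56.HeC.ChkP51
import Cfsg.Agent.Lib.Helper56.HeC.ChkP52
import Cfsg.Agent.Lib.Helper56.HeC.ChkP53
import Cfsg.Agent.Lib.Helper56.HeC.ChkP54
import Cfsg.Agent.Lib.Helper56.HeC.ChkP55
import Cfsg.Agent.Lib.Helper56.HeC.ChkP56
import Cfsg.Agent.Lib.Helper56.HeC.ChkP57
import Cfsg.Agent.Lib.Helper56.HeC.ChkP58
import Cfsg.Agent.Lib.Helper56.HeC.ChkP59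
import Cfsg.Agent.Lib.Helper56.HeC.ChkF0
import Cfsg.Agent.Lib.Helper56.HeC.ChkF1
import Cfsg.Agent.Lib.Helper56.HeC.ChkF2
import Cfsg.Agent.Lib.Helper56.HeC.ChkF3
import Cfsg.Agent.Lib.Helper56.HeC.ChkF4
import Cfsg.Agent.Lib.Helper56.HeC.ChkF5
import Cfsg.Agent.Lib.Helper56.HeC.ChkF6
import Cfsg.Agent.Lib.Helper56.HeC.ChkF7
import Cfsg.Agent.Lib.Helper56.HeC.ChkF8
import Cfsg.Agent.Lib.Helper56.HeC.ChkF9
import Cfsg.Agent.Lib.Helper56.HeC.ChkF10
import Cfsg.Agent.Lib.Helper56.HeC.ChkF11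
import Cfsg.Agent.Lib.Helper56.HeC.ChkF12
import Cfsg.Agent.Lib.Helper56.HeC.ChkF13
import Cfsg.Agent.Lib.Helper56.HeC.ChkF14
import Cfsg.Agent.Lib.Helper56.HeC.ChkC0
import Cfsg.Agent.Lib.Helper56.HeC.ChkC1
import Cfsg.Agent.Lib.Helper56.HeC.ChkC2
import Cfsg.Agent.Lib.Helper56.HeC.ChkC3
import Cfsg.Agent.Lib.Helper56.HeC.ChkC4
import Cfsg.Agent.Lib.Helper56.HeC.ChkC5
import Cfsg.Agent.Lib.Helper56.HeC.ChkC6
import Cfsg.Agent.Lib.Helper56.HeC.ChkC7
import Cfsg.Agent.Lib.Helper56.HeC.ChkC8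
import Cfsg.Agent.Lib.Helper56.HeC.ChkC9
import Cfsg.Agent.Lib.Helper56.HeC.ChkC10
import Cfsg.Agent.Lib.Helper56.HeC.ChkC11
import Cfsg.Agent.Lib.Helper56.HeC.ChkC12
import Cfsg.Agent.Lib.Helper56.HeC.ChkC13
import Cfsg.Agent.Lib.Helper56.HeC.ChkC14

set_option autoImplicit false
set_option linter.unusedVariables false

namespace Cfsg.Agent.Lib.Helper56.HeC

open Cfsg.Agent.Lib.Helper28.TC

noncomputable section

def NNpad : ℕ := 15360
theorem permP_all : ∀ i, i < nn → permP i = true := by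
  refine all_of_blocks nn permP 8 60 (by decide) ?_
  intro k hk
  interval_cases k
  · exact permP_blk0
  · exact permP_blk1
  · exact permP_blk2
  · exact permP_blk3
  · exact permP_blk4
  · exact permP_blk5
  · exact permP_blk6
  · exact permP_blk7
  · exact permP_blk8
  · exact permP_blk9
  · exact permP_blk10
  · exact permP_blk11
  · exact permP_blk12
  · exact permP_blk13
  · exact permP_blk14
  · exact permP_blk15
  · exact permP_blk16
  · exact permP_blk17
  · exact permP_blk18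
  · exact permP_blk19
  · exact permP_blk20
  · exact permP_blk21
  · exact permP_blk22
  · exact permP_blk23
  · exact permP_blk24
  · exact permP_blk25
  · exact permP_blk26
  · exact permP_blk27
  · exact permP_blk28
  · exact permP_blk29
  · exact permP_blk30
  · exact permP_blk31
  · exact permP_blk32
  · exact permP_blk33
  · exact permP_blk34
  · exact permP_blk35
  · exact permP_blk36
  · exact permP_blk37
  · exact permP_blk38
  · exact permP_blk39
  · exact permP_blk40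
  · exact permP_blk41
  · exact permP_blk42
  · exact permP_blk43
  · exact permP_blk44
  · exact permP_blk45
  · exact permP_blk46
  · exact permP_blk47
  · exact permP_blk48
  · exact permP_blk49
  · exact permP_blk50
  · exact permP_blk51
  · exact permP_blk52
  · exact permP_blk53
  · exact permP_blk54
  · exact permP_blk55
  · exact permP_blk56
  · exact permP_blk57
  · exact permP_blk58
  · exact permP_blk59

theorem factP_all : ∀ i, i < NNpad → factP i = true := by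
  refine allBlocks_spec factP 10 15 ?_
  intro k hk
  interval_cases k
  · exact factP_blk0
  · exact factP_blk1
  · exact factP_blk2
  · exact factP_blk3
  · exact factP_blk4
  · exact factP_blk5
  · exact factP_blk6
  · exact factP_blk7
  · exact factP_blk8
  · exact factP_blk9
  · exact factP_blk10
  · exact factP_blk11
  · exact factP_blk12
  · exact factP_blk13
  · exact factP_blk14

theorem closedP_all : ∀ i, i < nn → closedP i = true := by
  refine all_of_blocks nn closedP 10 15 (by decide) ?_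
  intro k hk
  interval_cases k
  · exact closedP_blk0
  · exact closedP_blk1
  · exact closedP_blk2
  · exact closedP_blk3
  · exact closedP_blk4
  · exact closedP_blk5
  · exact closedP_blk6
  · exact closedP_blk7
  · exact closedP_blk8
  · exact closedP_blk9
  · exact closedP_blk10
  · exact closedP_blk11
  · exact closedP_blk12
  · exact closedP_blk13
  · exact closedP_blk14

theorem hotA_lt : hotA < 2 ^ (31 * 15360) := by decide +kernel
theorem hotE0_lt : hotE0 < 2 ^ (31 * 15360) := by decide +kernel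
theorem hotE1_lt : hotE1 < 2 ^ (31 * 15360) := by decide +kernel
theorem hotE2_lt : hotE2 < 2 ^ (31 * 15360) := by decide +kernel
theorem hotE3_lt : hotE3 < 2 ^ (31 * 15360) := by decide +kernel
theorem hotE4_lt : hotE4 < 2 ^ (31 * 15360) := by decide +kernel
theorem subFix : allList (fun w => Nat.beq (act tf w 0) 0) subWords = true := by decide +kernel

end

end Cfsg.Agent.Lib.Helper56.HeC
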